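import Groth.Agent.SkOpenLib.Near
import Groth.Agent.CommAlgDim.DepthBounds
import Mathlib.RingTheory.Ideal.KrullsHeightTheorem

/-!
# Depth and dimension at a generisation
-/

set_option autoImplicit false
set_option linter.style.haveILetI false
set_option maxHeartbeats 800000

universe u

open IsLocalRing CommAlgDim

namespace SkOpenLib

variable {A : Type u} [CommRing A] (M : Type u) [AddCommGroup M] [Module A M]

theorem sdim_eq_bot_iff (q : Ideal A) [q.IsPrime] : sdim M q = ⊥ ↔ Subsingleton (LocalizedModule q.primeCompl M) :=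
  Module.supportDim_eq_bot_iff_subsingleton _ _

/-- The support dimension at a point of the support is its height in the support. -/
theorem sdim_eq_height (q : PrimeSpectrum A) (hq : q ∈ Module.support A M) :
    sdim M q.asIdeal = ((Order.height (⟨q, hq⟩ : Module.support A M) : ℕ∞) : WithBot ℕ∞) := by
  let B := Localization.AtPrime q.asIdeal
  rw [Order.height_eq_krullDim_Iic]
  have hle : ∀ P : PrimeSpectrum B, PrimeSpectrum.comap (algebraMap A B) P ≤ q := fun P a ha => by
    by_contra hc
    exact P.2.ne_top (Ideal.eq_top_of_isUnit_mem _ ha (IsLocalization.map_units _ (⟨a, hc⟩ : q.asIdeal.primeCompl)))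
  refine le_antisymm (Order.krullDim_le_of_strictMono (fun P => ⟨⟨PrimeSpectrum.comap (algebraMap A B) P.1,
      (DepthTwoLib.mem_support_localized_iff q.asIdeal M P.1).1 P.2⟩, hle P.1⟩) fun P P' h => ?_) ?_
  · refine lt_of_le_of_ne (show P.1.asIdeal.comap _ ≤ P'.1.asIdeal.comap _ from Ideal.comap_mono h.le) fun he => h.ne ?_
    refine Subtype.ext (PrimeSpectrum.ext ?_)
    have h1 : P.1.asIdeal.comap (algebraMap A B) = P'.1.asIdeal.comap (algebraMap A B) :=
      congrArg (fun z => z.1.1.asIdeal) he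
    exact (IsLocalization.map_under q.asIdeal.primeCompl B P.1.asIdeal).symm.trans
      ((congrArg (Ideal.map (algebraMap A B)) h1).trans (IsLocalization.map_under q.asIdeal.primeCompl B P'.1.asIdeal))
  · have hd : ∀ r : Set.Iic (⟨q, hq⟩ : Module.support A M),
        Disjoint (q.asIdeal.primeCompl : Set A) (r.1.1.asIdeal : Set A) := fun r =>
      Set.disjoint_left.mpr fun x hx hx' => hx ((show r.1.1 ≤ q from r.2) hx')
    have hp : ∀ r : Set.Iic (⟨q, hq⟩ : Module.support A M), (r.1.1.asIdeal.map (algebraMap A B)).IsPrime := fun r =>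
      IsLocalization.isPrime_of_isPrime_disjoint q.asIdeal.primeCompl B _ r.1.1.2 (hd r)
    have hu : ∀ r : Set.Iic (⟨q, hq⟩ : Module.support A M),
        (r.1.1.asIdeal.map (algebraMap A B)).comap (algebraMap A B) = r.1.1.asIdeal := fun r =>
      IsLocalization.under_map_of_isPrime_disjoint q.asIdeal.primeCompl B r.1.1.2 (hd r)
    refine Order.krullDim_le_of_strictMono (fun r => ⟨⟨_, hp r⟩,
      (DepthTwoLib.mem_support_localized_iff q.asIdeal M _).2 ?_⟩) fun r r' h => ?_
    · rw [show PrimeSpectrum.comap (algebraMap A B) ⟨_, hp r⟩ = r.1.1 from PrimeSpectrum.ext (hu r)]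
      exact r.1.2
    · refine lt_of_le_of_ne (show r.1.1.asIdeal.map _ ≤ r'.1.1.asIdeal.map _ from Ideal.map_mono h.le) fun he => h.ne ?_
      refine Subtype.ext (Subtype.ext (PrimeSpectrum.ext ?_))
      rw [← hu r, ← hu r']
      exact congrArg (fun z => (z.1.asIdeal).comap (algebraMap A B)) he

/-- Dimensions increase along a specialisation by at least the height. -/
theorem height_add_le (r : PrimeSpectrum A) (hr : r ∈ Module.support A M) :
    ∀ (h : ℕ) (q : PrimeSpectrum A) (hrq : r ≤ q)
      (hh : ∀ [(q.asIdeal.map (Ideal.Quotient.mk r.asIdeal)).IsPrime], (h : ℕ∞) ≤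
        (q.asIdeal.map (Ideal.Quotient.mk r.asIdeal)).height),
      Order.height (⟨r, hr⟩ : Module.support A M) + h ≤
        Order.height (⟨q, Module.mem_support_mono hrq hr⟩ : Module.support A M)
  | 0, q, hrq, _ => by
    rw [Nat.cast_zero, add_zero]
    exact Order.height_mono (show (⟨r, hr⟩ : Module.support A M) ≤ ⟨q, Module.mem_support_mono hrq hr⟩ from hrq)
  | h + 1, q, hrq, hh => by
    have hmap : (q.asIdeal.map (Ideal.Quotient.mk r.asIdeal)).IsPrime :=
      Ideal.map_isPrime_of_surjective Ideal.Quotient.mk_surjective (by rw [Ideal.mk_ker]; exact hrq)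
    let q' : PrimeSpectrum (A ⧸ r.asIdeal) := ⟨_, hmap⟩
    have hq' : q'.asIdeal.comap (Ideal.Quotient.mk r.asIdeal) = q.asIdeal := by
      show (q.asIdeal.map _).comap _ = _
      rw [Ideal.comap_map_quotientMk, sup_eq_right.2 (show r.asIdeal ≤ q.asIdeal from hrq)]
    have h1 : ((h + 1 : ℕ) : ℕ∞) ≤ Order.height q' := by
      rw [← PrimeSpectrum.height_eq_orderHeight]
      exact @hh hmap
    obtain ⟨s, hs, hlen⟩ := Order.exists_series_of_le_height q' h1
    let Q := s.eraseLast.last
    have hQlt : Q < q' := hs ▸ s.eraseLast_last_rel_last (by omega)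
    have hQh : (h : ℕ∞) ≤ Order.height Q :=
      le_trans (by simp [hlen]) (Order.length_le_height_last (p := s.eraseLast))
    let Q₀ : PrimeSpectrum A := PrimeSpectrum.comap (Ideal.Quotient.mk r.asIdeal) Q
    have hrQ : r ≤ Q₀ := fun a ha => by
      show Ideal.Quotient.mk r.asIdeal a ∈ Q.asIdeal
      rw [Ideal.Quotient.eq_zero_iff_mem.2 ha]; exact zero_mem _
    have hQq : Q₀ < q := by
      refine lt_of_le_of_ne (show Q.asIdeal.comap _ ≤ q.asIdeal from hq' ▸ Ideal.comap_mono hQlt.le) fun he => hQlt.ne ?_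
      refine PrimeSpectrum.comap_injective_of_surjective _ Ideal.Quotient.mk_surjective ?_
      exact he.trans (PrimeSpectrum.ext hq'.symm)
    have ih := height_add_le r hr h Q₀ hrQ (by
      intro _
      have h2 : Q₀.asIdeal.map (Ideal.Quotient.mk r.asIdeal) = Q.asIdeal :=
        Ideal.map_comap_of_surjective _ Ideal.Quotient.mk_surjective _
      simp only [h2]
      rw [PrimeSpectrum.height_eq_orderHeight]
      exact hQh)
    have h3 := Order.height_add_one_le
      (show (⟨Q₀, Module.mem_support_mono hrQ hr⟩ : Module.support A M) < ⟨q, Module.mem_support_mono hrq hr⟩ from hQq)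
    rw [Nat.cast_succ, ← add_assoc]
    exact (add_le_add ih le_rfl).trans h3

variable [IsNoetherianRing A] [Module.Finite A M]

/-- Support dimensions are natural numbers or `⊥`. -/
theorem sdim_cases (q : Ideal A) [q.IsPrime] : sdim M q = ⊥ ∨ ∃ x : ℕ, sdim M q = x := by
  haveI : IsNoetherianRing (Localization.AtPrime q) := IsLocalization.isNoetherianRing q.primeCompl _ inferInstance
  obtain ⟨d, hd⟩ := CommAlgDim.exists_ringKrullDim_eq (R := Localization.AtPrime q)
  have h : sdim M q ≤ (d : WithBot ℕ∞) := (Module.supportDim_le_ringKrullDim _ _).trans hd.le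
  generalize sdim M q = z at h
  induction z using WithBot.recBotCoe with
  | bot => exact Or.inl rfl
  | coe z =>
    induction z using ENat.recTopCoe with
    | top => exact absurd (WithBot.coe_le_coe.1 (h.trans_eq (show (d : WithBot ℕ∞) = ((d : ℕ∞) : WithBot ℕ∞) from rfl))) (by simp)
    | coe z => exact Or.inr ⟨z, rfl⟩

/-- The comparison at a generisation. -/
theorem generization (r q : Ideal A) [r.IsPrime] [q.IsPrime] (hrq : r ≤ q) :
    sdim M r = ⊥ ∨ ∃ x y h : ℕ, sdim M r = x ∧ sdim M q = y ∧ x + h ≤ y ∧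
      ∀ k : ℕ, ((k + h : ℕ) : ℕ∞) ≤ sdep M q → (k : ℕ∞) ≤ sdep M r := by
  rcases sdim_cases M r with hbot | ⟨x, hx⟩
  · exact Or.inl hbot
  have hr : (⟨r, inferInstance⟩ : PrimeSpectrum A) ∈ Module.support A M := by
    rw [Module.mem_support_iff]
    refine not_subsingleton_iff_nontrivial.1 fun h => ?_
    rw [(sdim_eq_bot_iff M r).2 h] at hx
    exact WithBot.bot_ne_natCast x hx
  have hq : (⟨q, inferInstance⟩ : PrimeSpectrum A) ∈ Module.support A M :=
    Module.mem_support_mono (show (⟨r, inferInstance⟩ : PrimeSpectrum A) ≤ ⟨q, inferInstance⟩ from hrq) hr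
  haveI hmap : (q.map (Ideal.Quotient.mk r)).IsPrime :=
    Ideal.map_isPrime_of_surjective Ideal.Quotient.mk_surjective (by rwa [Ideal.mk_ker])
  obtain ⟨h, hh⟩ := ENat.ne_top_iff_exists.1 (Ideal.height_ne_top hmap.ne_top)
  rcases sdim_cases M q with hbot | ⟨y, hy⟩
  · have h1 := sdim_eq_height M ⟨q, inferInstance⟩ hq
    rw [hbot] at h1
    exact absurd h1.symm WithBot.coe_ne_bot
  have h1 := height_add_le M ⟨r, inferInstance⟩ hr h ⟨q, inferInstance⟩ hrq (fun {_} => hh.le)
  have hx' := (sdim_eq_height M ⟨r, inferInstance⟩ hr).symm.trans hx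
  have hy' := (sdim_eq_height M ⟨q, inferInstance⟩ hq).symm.trans hy
  rw [show (x : WithBot ℕ∞) = ((x : ℕ∞) : WithBot ℕ∞) from rfl, WithBot.coe_inj] at hx'
  rw [show (y : WithBot ℕ∞) = ((y : ℕ∞) : WithBot ℕ∞) from rfl, WithBot.coe_inj] at hy'
  rw [hx', hy'] at h1
  refine Or.inr ⟨x, y, h, hx, hy, by exact_mod_cast h1, fun k hk => ?_⟩
  exact (hasSeqAt_iff M r k).1 (CommAlgDim.hasSeqIn_generization hrq hh.ge k M ((hasSeqAt_iff M q (k + h)).2 hk))

end SkOpenLib
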