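import Groth.Agent.SkOpenLib.Local
import Groth.Agent.DepthLib.SkStalk
import Mathlib.RingTheory.Spectrum.Prime.Topology

/-!
# The invariants of `A/p` as a module and as a ring
-/

set_option autoImplicit false
set_option linter.style.haveILetI false
set_option maxHeartbeats 800000

universe u

open IsLocalRing CommAlgDim

namespace SkOpenLib

variable {A : Type u} [CommRing A] [IsNoetherianRing A] (p q : Ideal A) [p.IsPrime] [q.IsPrime]

theorem isPrime_map_mk (hpq : p ≤ q) : (q.map (Ideal.Quotient.mk p)).IsPrime :=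
  Ideal.map_isPrime_of_surjective Ideal.Quotient.mk_surjective (by rwa [Ideal.mk_ker])

/-- The invariants of `A/p` at `q` are those of its local ring. -/
theorem quotient_invariants (hpq : p ≤ q) [(q.map (Ideal.Quotient.mk p)).IsPrime] :
    sdim (A ⧸ p) q = ringKrullDim (Localization.AtPrime (q.map (Ideal.Quotient.mk p))) ∧
      sdep (A ⧸ p) q = LocCoh.depth (Localization.AtPrime (q.map (Ideal.Quotient.mk p)))
        (Localization.AtPrime (q.map (Ideal.Quotient.mk p))) := by
  let q' := q.map (Ideal.Quotient.mk p)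
  let L := Localization.AtPrime q'
  have hq : q = q'.comap (Ideal.Quotient.mk p) := by
    show q = (q.map (Ideal.Quotient.mk p)).comap (Ideal.Quotient.mk p)
    rw [Ideal.comap_map_of_surjective _ Ideal.Quotient.mk_surjective, eq_comm, sup_eq_left]
    intro x hx
    exact hpq (by simpa [Ideal.Quotient.eq_zero_iff_mem] using hx)
  have hsub : Algebra.algebraMapSubmonoid (A ⧸ p) q.primeCompl = q'.primeCompl := by
    refine Submonoid.ext fun y => ⟨?_, fun hy => ?_⟩
    · rintro ⟨a, ha, rfl⟩ h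
      exact ha (hq ▸ h)
    · obtain ⟨a, rfl⟩ := Ideal.Quotient.mk_surjective y
      exact ⟨a, fun ha => hy (Ideal.mem_map_of_mem _ ha), rfl⟩
  haveI : IsLocalization (Algebra.algebraMapSubmonoid (A ⧸ p) q.primeCompl) L := by rw [hsub]; infer_instance
  haveI : IsLocalizedModule q.primeCompl (IsScalarTower.toAlgHom A (A ⧸ p) L).toLinearMap :=
    isLocalizedModule_iff_isLocalization.2 inferInstance
  letI : Algebra (Localization.AtPrime q) L := (Localization.localRingHom q q' (Ideal.Quotient.mk p) hq).toAlgebra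
  haveI : IsScalarTower A (Localization.AtPrime q) L := IsScalarTower.of_algebraMap_eq fun a =>
    (Localization.localRingHom_to_map q q' (Ideal.Quotient.mk p) hq a).symm
  have hs : Function.Surjective (algebraMap (Localization.AtPrime q) L) := by
    have h := RingHom.surjectiveOnStalks_of_surjective (Ideal.Quotient.mk_surjective (I := p)) q' inferInstance
    intro z
    obtain ⟨⟨a, s⟩, rfl⟩ : ∃ as : (A ⧸ p) × q'.primeCompl, IsLocalization.mk' L as.1 as.2 = z :=
      ⟨⟨_, _⟩, IsLocalization.mk'_sec L z⟩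
    obtain ⟨a, rfl⟩ := Ideal.Quotient.mk_surjective a
    obtain ⟨s, hs⟩ := s
    obtain ⟨t, rfl⟩ := Ideal.Quotient.mk_surjective s
    refine ⟨IsLocalization.mk' (Localization.AtPrime q) a (⟨t, fun ht => hs (Ideal.mem_map_of_mem _ ht)⟩ : q.primeCompl), ?_⟩
    exact Localization.localRingHom_mk' q q' (Ideal.Quotient.mk p) hq a _
  let ε : LocalizedModule q.primeCompl (A ⧸ p) ≃ₗ[Localization.AtPrime q] L :=
    (IsLocalizedModule.iso q.primeCompl (IsScalarTower.toAlgHom A (A ⧸ p) L).toLinearMap).extendScalarsOfIsLocalization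
      q.primeCompl (Localization.AtPrime q)
  haveI : Module.Finite (Localization.AtPrime q) L := Module.Finite.of_surjective (Algebra.linearMap _ L) hs
  haveI : IsNoetherianRing (Localization.AtPrime q) := IsLocalization.isNoetherianRing q.primeCompl _ inferInstance
  exact ⟨(Module.supportDim_eq_of_equiv ε).trans ((supportDim_of_surjective hs L).trans
      (Module.supportDim_self_eq_ringKrullDim L)),
    (CommAlgDim.depth_congr ε).trans (depth_of_surjective hs L)⟩

/-- A proper specialisation has positive dimension. -/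
theorem one_le_sdim_quotient (hpq : p ≤ q) (hne : q ≠ p) : (1 : WithBot ℕ∞) ≤ sdim (A ⧸ p) q := by
  haveI := isPrime_map_mk p q hpq
  rw [(quotient_invariants p q hpq).1]
  let L := Localization.AtPrime (q.map (Ideal.Quotient.mk p))
  haveI : IsDomain L := IsLocalization.isDomain_localization (Ideal.primeCompl_le_nonZeroDivisors _)
  refine Order.one_le_krullDim_iff.2 ⟨⟨⊥, Ideal.isPrime_bot⟩, ⟨maximalIdeal L, inferInstance⟩,
    lt_of_le_of_ne bot_le fun he => hne (le_antisymm (fun a ha => ?_) hpq)⟩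
  have h1 : algebraMap (A ⧸ p) L (Ideal.Quotient.mk p a) ∈ maximalIdeal L :=
    (IsLocalization.AtPrime.to_map_mem_maximal_iff L _ _).2 (Ideal.mem_map_of_mem _ ha)
  have h2 := congrArg PrimeSpectrum.asIdeal he
  change (⊥ : Ideal L) = maximalIdeal L at h2
  rw [← h2, Ideal.mem_bot] at h1
  exact Ideal.Quotient.eq_zero_iff_mem.1 (IsLocalization.injective L
    (Ideal.primeCompl_le_nonZeroDivisors (q.map (Ideal.Quotient.mk p))) (h1.trans (map_zero _).symm))

/-- An open set containing a generic piece of `V(p)`. -/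
theorem exists_of_isOpen {P : ∀ (q : Ideal (A ⧸ p)) [q.IsPrime], Prop}
    (h : ∃ U : Set (PrimeSpectrum (A ⧸ p)), IsOpen U ∧ U.Nonempty ∧ ∀ x ∈ U, P x.asIdeal) :
    ∃ f ∉ p, ∀ (q : Ideal A) [q.IsPrime] [(q.map (Ideal.Quotient.mk p)).IsPrime], p ≤ q → f ∉ q →
      P (q.map (Ideal.Quotient.mk p)) := by
  obtain ⟨U, hU, ⟨x, hx⟩, hP⟩ := h
  have hgen : (⟨⊥, Ideal.isPrime_bot⟩ : PrimeSpectrum (A ⧸ p)) ∈ U :=
    ((PrimeSpectrum.le_iff_specializes _ x).1 bot_le).mem_open hU hx
  obtain ⟨_, ⟨g, rfl⟩, hg, hgU⟩ := PrimeSpectrum.isTopologicalBasis_basic_opens.exists_subset_of_mem_open hgen hU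
  obtain ⟨f, rfl⟩ := Ideal.Quotient.mk_surjective g
  refine ⟨f, fun hf => hg ?_, fun q _ iq' hpq hfq => hP ⟨_, iq'⟩ (hgU fun hmem => hfq ?_)⟩
  · exact (Submodule.mem_bot _).2 (Ideal.Quotient.eq_zero_iff_mem.2 hf)
  · have h1 : f ∈ (q.map (Ideal.Quotient.mk p)).comap (Ideal.Quotient.mk p) := hmem
    rwa [Ideal.comap_map_of_surjective _ Ideal.Quotient.mk_surjective, sup_eq_left.2 (by
      intro y hy
      exact hpq (by simpa [Ideal.Quotient.eq_zero_iff_mem] using hy))] at h1

/-- Serre's condition of the integral quotient gives the inequality for `A/p` as a module. -/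
theorem good_of_hasSkAt (n : ℕ) (hpq : p ≤ q) [(q.map (Ideal.Quotient.mk p)).IsPrime]
    (h : EGA4.HasSkAt n (A ⧸ p) (A ⧸ p) (q.map (Ideal.Quotient.mk p))) : Good n (A ⧸ p) q := by
  have h1 := (hasSkAt_iff n _).1 h (q.map (Ideal.Quotient.mk p)) le_rfl
  haveI : IsNoetherianRing (Localization.AtPrime (q.map (Ideal.Quotient.mk p))) :=
    IsLocalization.isNoetherianRing (q.map (Ideal.Quotient.mk p)).primeCompl _ inferInstance
  have h2 := (DepthLib.min_supportDim_le_depth_localized_iff (A ⧸ p) n (q.map (Ideal.Quotient.mk p))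
    (RingEquiv.refl _)).1 h1
  obtain ⟨e1, e2⟩ := quotient_invariants p q hpq
  show min (n : WithBot ℕ∞) (sdim (A ⧸ p) q) ≤ (sdep (A ⧸ p) q : WithBot ℕ∞)
  rw [e1, e2]
  exact h2

/-- Cohen–Macaulayness of the integral quotient. -/
theorem sdim_le_sdep_of_cm (hpq : p ≤ q) [(q.map (Ideal.Quotient.mk p)).IsPrime]
    (h : LocCoh.IsCohenMacaulayLocalRing (Localization.AtPrime (q.map (Ideal.Quotient.mk p)))) :
    sdim (A ⧸ p) q ≤ (sdep (A ⧸ p) q : WithBot ℕ∞) := by
  obtain ⟨e1, e2⟩ := quotient_invariants p q hpq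
  rw [e1, e2, ← Module.supportDim_self_eq_ringKrullDim]
  exact h.supportDim_eq_depth.le

end SkOpenLib
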