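import Groth.Prelude.Def_EGA4b
import Groth.Agent.CommAlgDim.Depth
import Groth.Agent.DepthLib.AB
import Groth.Agent.DepthTwoLib.Reflexive
import Mathlib.RingTheory.Localization.LocalizationLocalization
import Mathlib.RingTheory.KrullDimension.Module

/-!
# Depth and support dimension at a prime
-/

set_option autoImplicit false
set_option linter.style.haveILetI false
set_option maxHeartbeats 800000

universe u

open IsLocalRing CommAlgDim

namespace SkOpenLib

variable {A : Type u} [CommRing A]

/-- The support dimension of `M` at `q`. -/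
noncomputable def sdim (M : Type u) [AddCommGroup M] [Module A M] (q : Ideal A) [q.IsPrime] : WithBot ℕ∞ :=
  Module.supportDim (Localization.AtPrime q) (LocalizedModule q.primeCompl M)

/-- The depth of `M` at `q`. -/
noncomputable def sdep (M : Type u) [AddCommGroup M] [Module A M] (q : Ideal A) [q.IsPrime] : ℕ∞ :=
  LocCoh.depth (Localization.AtPrime q) (LocalizedModule q.primeCompl M)

/-- Serre's inequality of order `n` for `M` at the prime `q`. -/
def Good (n : ℕ) (M : Type u) [AddCommGroup M] [Module A M] (q : Ideal A) [q.IsPrime] : Prop :=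
  min (n : WithBot ℕ∞) (sdim M q) ≤ (sdep M q : WithBot ℕ∞)

/-- Support dimensions along a surjection of rings. -/
theorem supportDim_of_surjective {R S : Type u} [CommRing R] [CommRing S] [Algebra R S]
    (hs : Function.Surjective (algebraMap R S)) (N : Type u) [AddCommGroup N] [Module R N] [Module S N]
    [IsScalarTower R S N] : Module.supportDim R N = Module.supportDim S N := by
  have hmem : ∀ P : PrimeSpectrum S, PrimeSpectrum.comap (algebraMap R S) P ∈ Module.support R N ↔
      P ∈ Module.support S N := fun P => by
    rw [Module.mem_support_iff', Module.mem_support_iff']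
    refine ⟨fun ⟨m, hm⟩ => ⟨m, fun s hs' h0 => ?_⟩, fun ⟨m, hm⟩ => ⟨m, fun r hr h0 => hm _ hr ?_⟩⟩
    · obtain ⟨r, rfl⟩ := hs s
      exact hm r hs' (by rwa [algebraMap_smul] at h0)
    · rwa [algebraMap_smul]
  have hrange : ∀ Q ∈ Module.support R N, RingHom.ker (algebraMap R S) ≤ Q.asIdeal := fun Q hQ x hx => by
    obtain ⟨m, hm⟩ := Module.mem_support_iff'.1 hQ
    by_contra hc
    exact hm x hc (by rw [← algebraMap_smul S x m, RingHom.mem_ker.1 hx, zero_smul])
  refine le_antisymm ?_ ?_
  · have hmap : ∀ Q : Module.support R N, (Q.1.asIdeal.map (algebraMap R S)).IsPrime := fun Q =>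
      Ideal.map_isPrime_of_surjective hs (hrange _ Q.2)
    have hc : ∀ Q : Module.support R N, (Q.1.asIdeal.map (algebraMap R S)).comap (algebraMap R S) = Q.1.asIdeal :=
      fun Q => by
        rw [Ideal.comap_map_of_surjective _ hs, sup_eq_left]
        exact hrange _ Q.2
    refine Order.krullDim_le_of_strictMono (fun Q => ⟨⟨_, hmap Q⟩, (hmem _).1 ?_⟩) fun Q Q' h => ?_
    · rw [show PrimeSpectrum.comap (algebraMap R S) ⟨_, hmap Q⟩ = Q.1 from PrimeSpectrum.ext (hc Q)]
      exact Q.2
    · refine lt_of_le_of_ne (show Q.1.asIdeal.map _ ≤ Q'.1.asIdeal.map _ from Ideal.map_mono h.le) fun he => h.ne ?_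
      refine Subtype.ext (PrimeSpectrum.ext ?_)
      rw [← hc Q, ← hc Q']
      exact congrArg (fun z => (z.1.asIdeal).comap (algebraMap R S)) he
  · refine Order.krullDim_le_of_strictMono (fun P => ⟨PrimeSpectrum.comap (algebraMap R S) P.1, (hmem _).2 P.2⟩)
      fun P P' h => ?_
    refine lt_of_le_of_ne (show P.1.asIdeal.comap _ ≤ P'.1.asIdeal.comap _ from Ideal.comap_mono h.le) fun he =>
      h.ne (Subtype.ext (PrimeSpectrum.comap_injective_of_surjective _ hs (congrArg Subtype.val he)))

/-- Depth along a surjection of local rings. -/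
theorem depth_of_surjective {R S : Type u} [CommRing R] [CommRing S] [IsLocalRing R] [IsLocalRing S]
    [IsNoetherianRing R] [Algebra R S] (hs : Function.Surjective (algebraMap R S)) (N : Type u) [AddCommGroup N]
    [Module R N] [Module S N] [IsScalarTower R S N] [Module.Finite R N] :
    LocCoh.depth R N = LocCoh.depth S N := by
  haveI : IsNoetherianRing S := isNoetherianRing_of_surjective R S _ hs
  haveI : Module.Finite S N := Module.Finite.of_restrictScalars_finite R S N
  exact ENat.eq_of_forall_natCast_le_iff fun k =>
    (le_depth_iff k).trans ((DepthLib.hasSeqIn_of_surjective hs N k).trans (le_depth_iff k).symm)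

/-- The invariants at `r` in any model of the localisation. -/
theorem eq_of_isLocalizedModule [IsNoetherianRing A] (r : Ideal A) [r.IsPrime] (S : Type u) [CommRing S] [IsLocalRing S]
    [Algebra A S] [IsLocalization.AtPrime S r] {M N : Type u} [AddCommGroup M] [Module A M] [Module.Finite A M]
    [AddCommGroup N] [Module A N] [Module S N] [IsScalarTower A S N] (f : M →ₗ[A] N)
    [IsLocalizedModule r.primeCompl f] :
    Module.supportDim S N = sdim M r ∧ LocCoh.depth S N = sdep M r := by
  let e : Localization.AtPrime r ≃ₐ[A] S := IsLocalization.algEquiv r.primeCompl _ _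
  letI : Algebra (Localization.AtPrime r) S := e.toRingEquiv.toRingHom.toAlgebra
  letI : Module (Localization.AtPrime r) N := Module.compHom N e.toRingEquiv.toRingHom
  haveI : IsScalarTower (Localization.AtPrime r) S N := ⟨fun a s x => mul_smul (e a) s x⟩
  haveI : IsScalarTower A (Localization.AtPrime r) N := IsScalarTower.of_algebraMap_smul fun a x => by
    show e (algebraMap A (Localization.AtPrime r) a) • x = a • x
    rw [e.commutes, algebraMap_smul]
  let ε : LocalizedModule r.primeCompl M ≃ₗ[Localization.AtPrime r] N :=
    (IsLocalizedModule.iso r.primeCompl f).extendScalarsOfIsLocalization r.primeCompl (Localization.AtPrime r)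
  have hs : Function.Surjective (algebraMap (Localization.AtPrime r) S) := e.surjective
  haveI : IsNoetherianRing (Localization.AtPrime r) := IsLocalization.isNoetherianRing r.primeCompl _ inferInstance
  haveI : Module.Finite (Localization.AtPrime r) N := Module.Finite.equiv ε
  exact ⟨(supportDim_of_surjective hs N).symm.trans (Module.supportDim_eq_of_equiv ε).symm,
    (depth_of_surjective hs N).symm.trans (CommAlgDim.depth_congr ε).symm⟩

variable {M : Type u} [AddCommGroup M] [Module A M]

/-- A localisation of a localised module is the localised module at the contracted prime. -/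
theorem isLocalizedModule_localized_localized (q : Ideal A) [q.IsPrime] (P : Ideal (Localization.AtPrime q))
    [P.IsPrime] :
    IsLocalizedModule (P.comap (algebraMap A (Localization.AtPrime q))).primeCompl
      ((LocalizedModule.mkLinearMap P.primeCompl (LocalizedModule q.primeCompl M)).restrictScalars A ∘ₗ
        LocalizedModule.mkLinearMap q.primeCompl M) := by
  let Q := Localization.AtPrime q
  let T := Localization.AtPrime P
  let Mq := LocalizedModule q.primeCompl M
  let g := LocalizedModule.mkLinearMap P.primeCompl Mq
  let g₀ := LocalizedModule.mkLinearMap q.primeCompl M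
  let r := P.comap (algebraMap A Q)
  have hrq : ∀ c : q.primeCompl, (c : A) ∈ r.primeCompl := fun c hc =>
    (inferInstance : P.IsPrime).ne_top (Ideal.eq_top_of_isUnit_mem _ hc (IsLocalization.map_units Q c))
  refine ⟨fun c => ?_, fun y => ?_, fun {m m'} h => ?_⟩
  · have hu : IsUnit (algebraMap A T c) := by
      rw [IsScalarTower.algebraMap_apply A Q T]
      exact IsLocalization.map_units T (⟨algebraMap A Q c, c.2⟩ : P.primeCompl)
    refine (Module.End.isUnit_iff _).2 ?_
    have h : (fun y : LocalizedModule P.primeCompl Mq => (c : A) • y) = fun y => algebraMap A T c • y :=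
      funext fun y => (algebraMap_smul T (c : A) y).symm
    show Function.Bijective fun y : LocalizedModule P.primeCompl Mq => (c : A) • y
    rw [h]
    exact ⟨fun a b hab => hu.smul_left_cancel.1 hab, fun z => ⟨hu.unit⁻¹.1 • z, by
      show algebraMap A T c • _ = z
      rw [smul_smul, hu.mul_val_inv, one_smul]⟩⟩
  · obtain ⟨⟨w, s⟩, hw⟩ := IsLocalizedModule.surj P.primeCompl g y
    obtain ⟨⟨m, t⟩, hm⟩ := IsLocalizedModule.surj q.primeCompl g₀ w
    obtain ⟨⟨b, u⟩, hb⟩ := IsLocalization.surj q.primeCompl (s : Q)
    change (s : Q) * algebraMap A Q u = algebraMap A Q b at hb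
    change (s : Q) • y = g w at hw
    change (t : A) • w = g₀ m at hm
    have hbr : b ∈ r.primeCompl := fun hb' => by
      have h1 : (s : Q) * algebraMap A Q u ∈ P := hb ▸ hb'
      rcases (inferInstance : P.IsPrime).mem_or_mem h1 with h2 | h2
      · exact s.2 h2
      · exact hrq u h2
    refine ⟨⟨(u : A) • m, ⟨b * t, r.primeCompl.mul_mem hbr (hrq t)⟩⟩, ?_⟩
    show (b * (t : A)) • y = g (g₀ ((u : A) • m))
    rw [map_smul g₀, ← hm, smul_smul, LinearMap.map_smul_of_tower, ← hw, ← algebraMap_smul Q (b * (t : A)) y,
      ← algebraMap_smul Q ((u : A) * t), smul_smul, map_mul, map_mul, ← hb]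
    refine congrArg (fun z : Q => z • y) ?_
    ring
  · change g (g₀ m) = g (g₀ m') at h
    obtain ⟨s, hs⟩ := IsLocalizedModule.exists_of_eq (S := P.primeCompl) h
    obtain ⟨⟨b, u⟩, hb⟩ := IsLocalization.surj q.primeCompl (s : Q)
    change (s : Q) * algebraMap A Q u = algebraMap A Q b at hb
    have hbr : b ∈ r.primeCompl := fun hb' => by
      have h1 : (s : Q) * algebraMap A Q u ∈ P := hb ▸ hb'
      rcases (inferInstance : P.IsPrime).mem_or_mem h1 with h2 | h2
      · exact s.2 h2
      · exact hrq u h2
    have h1 : g₀ (b • m) = g₀ (b • m') := by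
      rw [map_smul, map_smul, ← algebraMap_smul Q b, ← hb, mul_comm, mul_smul,
        ← algebraMap_smul Q b (g₀ m'), ← hb, mul_comm (s : Q), mul_smul]
      exact congrArg _ hs
    obtain ⟨c, hc⟩ := IsLocalizedModule.exists_of_eq (S := q.primeCompl) h1
    refine ⟨⟨(c : A) * b, r.primeCompl.mul_mem (hrq c) hbr⟩, ?_⟩
    show ((c : A) * b) • m = ((c : A) * b) • m'
    rw [mul_smul, mul_smul]
    exact hc

/-- `(S_n)` at `q` is Serre's inequality at all generalisations of `q`. -/
theorem hasSkAt_iff [IsNoetherianRing A] [Module.Finite A M] (n : ℕ) (q : Ideal A) [q.IsPrime] :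
    EGA4.HasSkAt n A M q ↔ ∀ (r : Ideal A) [r.IsPrime], r ≤ q → Good n M r := by
  have key : ∀ (P : Ideal (Localization.AtPrime q)) [P.IsPrime],
      Module.supportDim (Localization.AtPrime P) (LocalizedModule P.primeCompl (LocalizedModule q.primeCompl M)) =
          sdim M (P.comap (algebraMap A (Localization.AtPrime q))) ∧
        LocCoh.depth (Localization.AtPrime P) (LocalizedModule P.primeCompl (LocalizedModule q.primeCompl M)) =
          sdep M (P.comap (algebraMap A (Localization.AtPrime q))) := by
    intro P _
    haveI : IsLocalization.AtPrime (Localization.AtPrime P) (P.comap (algebraMap A (Localization.AtPrime q))) :=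
      IsLocalization.isLocalization_isLocalization_atPrime_isLocalization q.primeCompl _ P
    haveI := isLocalizedModule_localized_localized (M := M) q P
    exact eq_of_isLocalizedModule (P.comap (algebraMap A (Localization.AtPrime q))) (Localization.AtPrime P)
      ((LocalizedModule.mkLinearMap P.primeCompl (LocalizedModule q.primeCompl M)).restrictScalars A ∘ₗ
        LocalizedModule.mkLinearMap q.primeCompl M)
  constructor
  · intro h r _ hr
    have hd : Disjoint (q.primeCompl : Set A) (r : Set A) := Set.disjoint_left.mpr fun x hx hx' => hx (hr hx')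
    haveI := IsLocalization.isPrime_of_isPrime_disjoint q.primeCompl (Localization.AtPrime q) r inferInstance hd
    have h1 := h (r.map (algebraMap A (Localization.AtPrime q)))
    rw [(key _).1, (key _).2] at h1
    have h2 : (r.map (algebraMap A (Localization.AtPrime q))).comap (algebraMap A (Localization.AtPrime q)) = r :=
      IsLocalization.under_map_of_isPrime_disjoint q.primeCompl _ inferInstance hd
    revert h1
    show Good n M _ → _
    simp only [h2]
    exact id
  · intro h P _
    rw [(key P).1, (key P).2]
    refine h _ fun a ha => ?_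
    by_contra hc
    exact (inferInstance : P.IsPrime).ne_top
      (Ideal.eq_top_of_isUnit_mem _ ha (IsLocalization.map_units _ (⟨a, hc⟩ : q.primeCompl)))

end SkOpenLib
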