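import Groth.Agent.SkOpenLib.Open
import Groth.Agent.DualCxLib.DepthApps

/-!
# Rings with a dualizing complex have generically Cohen–Macaulay integral quotients
-/

set_option autoImplicit false
set_option linter.style.haveILetI false

universe u

open IsLocalRing CommAlgDim

namespace SkOpenLib

theorem genericCM_of_dualizing {A : Type u} [CommRing A] [IsNoetherianRing A] {ω : Dual.D A}
    (hω : Dual.IsDualizing A ω) : GenericCM A := by
  intro p _
  have hopen := Groth.Agent.DualCxLib.isOpen_CM hω (A ⧸ p)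
  haveI := isPrime_map_mk p p le_rfl
  obtain ⟨e1, e2⟩ := quotient_invariants p p le_rfl
  let L := Localization.AtPrime (p.map (Ideal.Quotient.mk p))
  haveI : IsDomain L := IsLocalization.isDomain_localization (Ideal.primeCompl_le_nonZeroDivisors _)
  have hmax : maximalIdeal L = ⊥ := by
    refine (IsLocalization.AtPrime.map_eq_maximalIdeal (p.map (Ideal.Quotient.mk p)) L).symm.trans ?_
    exact (congrArg (Ideal.map (algebraMap (A ⧸ p) L)) (Ideal.map_quotient_self p)).trans Ideal.map_bot
  haveI : IsNoetherianRing L := IsLocalization.isNoetherianRing (p.map (Ideal.Quotient.mk p)).primeCompl L inferInstance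
  have hdep : LocCoh.depth L L = 0 := by
    refine ENat.lt_one_iff_eq_zero.1 (not_le.1 fun h => ?_)
    obtain ⟨rs, hl, hm, hr⟩ := (le_depth_iff (R := L) (M := L) 1).1 (by exact_mod_cast h)
    obtain ⟨x, rfl⟩ := List.length_eq_one_iff.1 hl
    have hx : x = 0 := by simpa [hmax] using hm x (List.mem_singleton_self x)
    rw [RingTheory.Sequence.isWeaklyRegular_singleton_iff, hx, IsSMulRegular.zero_iff_subsingleton] at hr
    exact one_ne_zero (Subsingleton.elim (1 : L) 0)
  have hdim : ringKrullDim L = 0 :=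
    ringKrullDim_eq_zero_of_isField (IsLocalRing.isField_iff_maximalIdeal_eq.2 hmax)
  have hp : (⟨p, inferInstance⟩ : PrimeSpectrum A) ∈ {q : PrimeSpectrum A |
      Subsingleton (LocalizedModule q.asIdeal.primeCompl (A ⧸ p)) ∨
      LocCoh.IsCohenMacaulayModule (Localization.AtPrime q.asIdeal) (LocalizedModule q.asIdeal.primeCompl (A ⧸ p))} := by
    refine Or.inr (?_ : sdim (A ⧸ p) p = (sdep (A ⧸ p) p : WithBot ℕ∞))
    rw [e1, e2, hdep, hdim]
    rfl
  obtain ⟨_, ⟨f, rfl⟩, hf, hsub⟩ := PrimeSpectrum.isTopologicalBasis_basic_opens.exists_subset_of_mem_open hp hopen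
  refine ⟨f, hf, fun q iq _ hfq => ?_⟩
  rcases hsub (show (⟨q, iq⟩ : PrimeSpectrum A) ∈ (PrimeSpectrum.basicOpen f : Set (PrimeSpectrum A)) from hfq) with h | h
  · rw [(sdim_eq_bot_iff (A ⧸ p) q).2 h]
    exact bot_le
  · exact le_of_eq h

end SkOpenLib
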