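import Groth.Agent.SkOpenLib.Local
import Groth.Agent.SMTLib.DepthSeq
import Mathlib.RingTheory.Ideal.AssociatedPrime.Finiteness
import Mathlib.RingTheory.KrullDimension.Regular

/-!
# Depth and dimension along a generic part of `V(p)`
-/

set_option autoImplicit false
set_option linter.style.haveILetI false
set_option maxHeartbeats 800000

universe u

open IsLocalRing CommAlgDim Pointwise

namespace SkOpenLib

variable {A : Type u} [CommRing A]

/-- There is a regular sequence of length `j` at `q`. -/
def HasSeqAt (M : Type u) [AddCommGroup M] [Module A M] (q : Ideal A) [q.IsPrime] (j : ℕ) : Prop :=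
  HasSeqIn (maximalIdeal (Localization.AtPrime q)) (LocalizedModule q.primeCompl M) j

theorem hasSeqAt_iff [IsNoetherianRing A] (M : Type u) [AddCommGroup M] [Module A M] [Module.Finite A M]
    (q : Ideal A) [q.IsPrime] (j : ℕ) : HasSeqAt M q j ↔ (j : ℕ∞) ≤ sdep M q :=
  haveI : IsNoetherianRing (Localization.AtPrime q) := IsLocalization.isNoetherianRing q.primeCompl _ inferInstance
  (le_depth_iff j).symm

/-- Localisations vanish away from a killing element. -/
theorem subsingleton_localized {M : Type u} [AddCommGroup M] [Module A M] {q : Ideal A} [q.IsPrime] {f : A}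
    (hf : f ∉ q) (h : ∀ m : M, f • m = 0) : Subsingleton (LocalizedModule q.primeCompl M) :=
  LocalizedModule.subsingleton_iff.2 fun m => ⟨f, hf, h m⟩

/-- A finite submodule vanishing at `p` is killed by an element outside `p`. -/
theorem exists_killing {M : Type u} [AddCommGroup M] [Module A M] [Module.Finite A M] (p : Ideal A) [p.IsPrime]
    (h : ∀ m : M, ∃ c ∉ p, c • m = 0) : ∃ f ∉ p, ∀ m : M, f • m = 0 := by
  classical
  obtain ⟨G, hG⟩ := (inferInstance : Module.Finite A M).fg_top
  choose c hc hc0 using h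
  refine ⟨∏ g ∈ G, c g, fun hm => ?_, fun m => ?_⟩
  · obtain ⟨g, -, hg⟩ := (inferInstance : p.IsPrime).prod_mem_iff.1 hm
    exact hc g hg
  · have hm : m ∈ Submodule.span A (G : Set M) := hG ▸ Submodule.mem_top
    induction hm using Submodule.span_induction with
    | mem x hx =>
      rw [← Finset.prod_erase_mul G c (Finset.mem_coe.1 hx), mul_smul, hc0, smul_zero]
    | zero => rw [smul_zero]
    | add _ _ _ _ ha hb => rw [smul_add, ha, hb, add_zero]
    | smul r x _ hx => rw [smul_comm, hx, smul_zero]

theorem quot_smul (r : Ideal A) (a z : A) : a • Ideal.Quotient.mk r z = Ideal.Quotient.mk r (a * z) := rfl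

theorem le_of_add_one_le {a : WithBot ℕ∞} {d : ℕ} (h : a + 1 ≤ (d : WithBot ℕ∞) + 1) : a ≤ d := by
  induction a using WithBot.recBotCoe with
  | bot => exact bot_le
  | coe a =>
    induction a using ENat.recTopCoe with
    | top =>
      rw [show ((⊤ : ℕ∞) : WithBot ℕ∞) + 1 = ((⊤ : ℕ∞) : WithBot ℕ∞) from rfl] at h
      exact absurd (WithBot.coe_le_coe.1 (h.trans_eq (show (d : WithBot ℕ∞) + 1 = (((d + 1 : ℕ) : ℕ∞) : WithBot ℕ∞) from rfl))) (by simp)
    | coe a =>
      have h' : a + 1 ≤ d + 1 := by exact_mod_cast h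
      exact_mod_cast Nat.le_of_succ_le_succ h'

variable [IsNoetherianRing A] (p : Ideal A) [p.IsPrime]

/-- Near `p` in `V(p)` the depth is at least that of `A/p`. -/
theorem exists_depth_base (M : Type u) [AddCommGroup M] [Module A M] [Module.Finite A M] :
    ∃ f ∉ p, ∀ (q : Ideal A) [q.IsPrime], p ≤ q → f ∉ q → ∀ i, HasSeqAt (A ⧸ p) q i → HasSeqAt M q i := by
  classical
  suffices H : ∀ (I : Submodule A A) (M : Type u) [AddCommGroup M] [Module A M] [Module.Finite A M],
      (∀ a ∈ I, ∀ m : M, a • m = 0) →
      ∃ f ∉ p, ∀ (q : Ideal A) [q.IsPrime], p ≤ q → f ∉ q → ∀ i, HasSeqAt (A ⧸ p) q i → HasSeqAt M q i from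
    H ⊥ M fun a ha m => by rw [(Submodule.mem_bot A).1 ha, zero_smul]
  intro I
  induction I using IsNoetherian.induction with
  | hgt I ih =>
    intro M _ _ _
    refine IsNoetherianRing.induction_on_isQuotientEquivQuotientPrime (A := A) (M := M) inferInstance
      (motive := fun N _ _ _ => (∀ a ∈ I, ∀ m : N, a • m = 0) →
        ∃ f ∉ p, ∀ (q : Ideal A) [q.IsPrime], p ≤ q → f ∉ q → ∀ i, HasSeqAt (A ⧸ p) q i → HasSeqAt N q i)
      ?_ ?_ ?_
    · intro N _ _ _ _ _
      exact ⟨1, (Ideal.ne_top_iff_one p).1 (Ideal.IsPrime.ne_top inferInstance),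
        fun q _ _ _ i _ => hasSeqIn_of_subsingleton _ i⟩
    · intro N _ _ _ r e hI
      by_cases hrp : r.1 ≤ p
      · rcases hrp.lt_or_eq with hlt | heq
        · obtain ⟨x, hxp, hxr⟩ := SetLike.exists_of_lt hlt
          have hIr : I ≤ r.1 := fun a ha => by
            have h1 := hI a ha (e.symm (Ideal.Quotient.mk _ 1))
            rw [← map_smul, LinearEquiv.map_eq_zero_iff, quot_smul, mul_one,
              Ideal.Quotient.eq_zero_iff_mem] at h1
            exact h1
          have hreg : IsSMulRegular N x := by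
            refine (e.isSMulRegular_congr x).2 (isSMulRegular_iff_right_eq_zero_of_smul.2 fun z hz => ?_)
            obtain ⟨z, rfl⟩ := Ideal.Quotient.mk_surjective z
            rw [quot_smul, Ideal.Quotient.eq_zero_iff_mem] at hz
            exact Ideal.Quotient.eq_zero_iff_mem.2 ((r.2.mem_or_mem hz).resolve_left hxr)
          let J : Submodule A A := r.1 ⊔ Ideal.span {x}
          have hJ : I < J := lt_of_le_of_lt hIr (lt_of_le_of_ne le_sup_left fun h => hxr (h.symm ▸
            Ideal.mem_sup_right (Ideal.mem_span_singleton_self x)))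
          obtain ⟨f, hf, hN⟩ := ih J hJ (QuotSMulTop x N) fun a ha m => by
            obtain ⟨a', ha', c, hc, rfl⟩ := Submodule.mem_sup.1 ha
            obtain ⟨c, rfl⟩ := Ideal.mem_span_singleton'.1 hc
            obtain ⟨m, rfl⟩ := Submodule.Quotient.mk_surjective _ m
            rw [← Submodule.Quotient.mk_smul, Submodule.Quotient.mk_eq_zero, add_smul]
            refine add_mem ?_ ?_
            · have h0 : a' • m = 0 := e.injective (by
                rw [map_smul, map_zero]
                obtain ⟨w, hw⟩ := Ideal.Quotient.mk_surjective (e m)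
                rw [← hw, quot_smul, Ideal.Quotient.eq_zero_iff_mem]
                exact Ideal.mul_mem_right _ _ ha')
              rw [h0]; exact zero_mem _
            · rw [mul_comm, mul_smul]
              exact Submodule.smul_mem_pointwise_smul _ _ _ trivial
          refine ⟨f, hf, fun q _ hpq hfq i hi => ?_⟩
          haveI : IsNoetherianRing (Localization.AtPrime q) := IsLocalization.isNoetherianRing q.primeCompl _ inferInstance
          obtain ⟨E⟩ := exists_quot_equiv (M := N) q x
          exact HasSeqIn.mono (Nat.le_succ i) (hasSeqIn_succ_of_cons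
            ((IsLocalization.AtPrime.to_map_mem_maximal_iff (Localization.AtPrime q) q x).2 (hpq hxp))
            (isSMulRegular_localization q hreg) (HasSeqIn.congr E (hN q hpq hfq i hi)))
        · refine ⟨1, (Ideal.ne_top_iff_one p).1 (Ideal.IsPrime.ne_top inferInstance), fun q _ _ _ i hi => ?_⟩
          let E : LocalizedModule q.primeCompl (A ⧸ p) ≃ₗ[Localization.AtPrime q] LocalizedModule q.primeCompl N :=
            IsLocalizedModule.mapEquiv q.primeCompl (LocalizedModule.mkLinearMap q.primeCompl (A ⧸ p))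
              (LocalizedModule.mkLinearMap q.primeCompl N) (Localization.AtPrime q)
              ((Submodule.quotEquivOfEq _ _ heq.symm).trans e.symm)
          exact HasSeqIn.congr E hi
      · obtain ⟨f, hfr, hfp⟩ := SetLike.not_le_iff_exists.1 hrp
        refine ⟨f, hfp, fun q _ _ hfq i _ => ?_⟩
        haveI := subsingleton_localized (M := N) hfq fun m => e.injective (by
          rw [map_smul, map_zero]
          obtain ⟨w, hw⟩ := Ideal.Quotient.mk_surjective (e m)
          rw [← hw, quot_smul, Ideal.Quotient.eq_zero_iff_mem]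
          exact Ideal.mul_mem_right _ _ hfr)
        exact hasSeqIn_of_subsingleton _ i
    · intro N₁ _ _ _ N₂ _ _ _ N₃ _ _ _ g h hg hh hex h1 h3 hI
      obtain ⟨f₁, hf₁, H₁⟩ := h1 fun a ha m => hg (by rw [map_smul, map_zero]; exact hI a ha _)
      obtain ⟨f₃, hf₃, H₃⟩ := h3 fun a ha m => by
        obtain ⟨m, rfl⟩ := hh m
        rw [← map_smul, hI a ha, map_zero]
      refine ⟨f₁ * f₃, fun hm => ((inferInstance : p.IsPrime).mem_or_mem hm).elim hf₁ hf₃, fun q _ hpq hfq i hi => ?_⟩
      haveI : IsNoetherianRing (Localization.AtPrime q) := IsLocalization.isNoetherianRing q.primeCompl _ inferInstance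
      exact SMTLib.hasSeqIn_middle i (LocalizedModule.map q.primeCompl g) (LocalizedModule.map q.primeCompl h)
        (LocalizedModule.map_injective q.primeCompl g hg)
        (LocalizedModule.map_exact q.primeCompl g h hex) (LocalizedModule.map_surjective q.primeCompl h hh)
        (H₁ q hpq (fun h' => hfq (Ideal.mul_mem_right _ _ h')) i hi)
        (H₃ q hpq (fun h' => hfq (Ideal.mul_mem_left _ _ h')) i hi)

/-- Near `p` in `V(p)` depths add up. -/
theorem exists_depth : ∀ (j : ℕ) (M : Type u) [AddCommGroup M] [Module A M] [Module.Finite A M],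
    HasSeqAt M p j →
    ∃ f ∉ p, ∀ (q : Ideal A) [q.IsPrime], p ≤ q → f ∉ q → ∀ i, HasSeqAt (A ⧸ p) q i → HasSeqAt M q (i + j)
  | 0, M, _, _, _, _ => exists_depth_base p M
  | j + 1, M, _, _, _, hj => by
    let Ap := Localization.AtPrime p
    haveI : IsNoetherianRing Ap := IsLocalization.isNoetherianRing p.primeCompl _ inferInstance
    obtain ⟨y, hy, hyreg⟩ := exists_isSMulRegular_mem ((hasSeqIn_one_iff _).1 (hj.mono (Nat.le_add_left 1 j)))
    obtain ⟨⟨a, t⟩, hat⟩ := IsLocalization.surj p.primeCompl y
    change y * algebraMap A Ap t = algebraMap A Ap a at hat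
    have haM : algebraMap A Ap a ∈ maximalIdeal Ap := hat ▸ Ideal.mul_mem_right _ _ hy
    have hap : a ∈ p := (IsLocalization.AtPrime.to_map_mem_maximal_iff Ap p a).1 haM
    have hareg : IsSMulRegular (LocalizedModule p.primeCompl M) (algebraMap A Ap a) :=
      hat ▸ hyreg.mul ((IsLocalization.map_units Ap t).isSMulRegular _)
    obtain ⟨f₀, hf₀, hkill⟩ := exists_killing (M := LinearMap.ker (LinearMap.lsmul A M a)) p fun k => by
      have h0 : LocalizedModule.mkLinearMap p.primeCompl M k.1 = 0 := by
        refine hareg.right_eq_zero_of_smul ?_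
        rw [algebraMap_smul, ← map_smul, show a • (k.1 : M) = 0 from k.2, map_zero]
      obtain ⟨c, hc⟩ := (IsLocalizedModule.eq_zero_iff p.primeCompl _).1 h0
      exact ⟨c, c.2, Subtype.ext hc⟩
    obtain ⟨E⟩ := exists_quot_equiv (M := M) p a
    obtain ⟨f, hf, H⟩ := exists_depth j (QuotSMulTop a M) (HasSeqIn.congr E.symm (hj.quotSMulTop haM hareg))
    refine ⟨f₀ * f, fun hm => ((inferInstance : p.IsPrime).mem_or_mem hm).elim hf₀ hf, fun q _ hpq hfq i hi => ?_⟩
    have hreg : IsSMulRegular (LocalizedModule q.primeCompl M) (algebraMap A (Localization.AtPrime q) a) := by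
      refine isSMulRegular_iff_right_eq_zero_of_smul.2 fun z hz => ?_
      obtain ⟨⟨m, s⟩, rfl⟩ := IsLocalizedModule.mk'_surjective q.primeCompl
        (LocalizedModule.mkLinearMap q.primeCompl M) z
      simp only [Function.uncurry_apply_pair, algebraMap_smul, ← IsLocalizedModule.mk'_smul,
        IsLocalizedModule.mk'_eq_zero'] at hz ⊢
      obtain ⟨c, hc⟩ := hz
      have hc' : (c : A) • m ∈ LinearMap.ker (LinearMap.lsmul A M a) := by
        show a • (c : A) • m = 0
        rw [smul_comm]; exact hc
      refine ⟨⟨f₀ * c, q.primeCompl.mul_mem (fun h => hfq (Ideal.mul_mem_right _ _ h)) c.2⟩, ?_⟩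
      show (f₀ * (c : A)) • m = 0
      rw [mul_smul]
      exact congrArg Subtype.val (hkill ⟨_, hc'⟩)
    obtain ⟨E'⟩ := exists_quot_equiv (M := M) q a
    exact hasSeqIn_succ_of_cons ((IsLocalization.AtPrime.to_map_mem_maximal_iff _ q a).2 (hpq hap)) hreg
      (HasSeqIn.congr E' (H q hpq (fun h => hfq (Ideal.mul_mem_left _ _ h)) i hi))

/-- At a minimal prime of the support the dimension is at most that of `A/p`. -/
theorem exists_dim_base (M : Type u) [AddCommGroup M] [Module A M] [Module.Finite A M]
    (hp : ∀ r ∈ (Module.annihilator A M).minimalPrimes, r ≤ p → r = p) :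
    ∃ f ∉ p, ∀ (q : Ideal A) [q.IsPrime], p ≤ q → f ∉ q → sdim M q ≤ sdim (A ⧸ p) q := by
  classical
  have hfin : (Module.annihilator A M).minimalPrimes.Finite := Ideal.finite_minimalPrimes_of_isNoetherianRing A _
  have hg : ∀ r ∈ hfin.toFinset.filter (fun r => ¬ r ≤ p), ∃ g ∈ r, g ∉ p := fun r hr =>
    SetLike.not_le_iff_exists.1 (Finset.mem_filter.1 hr).2
  choose g hg hgp using hg
  refine ⟨∏ r : (hfin.toFinset.filter fun r => ¬ r ≤ p : Finset (Ideal A)), g r.1 r.2, fun hm => ?_,
    fun q _ hpq hfq => Order.krullDim_le_of_strictMono (fun P => ⟨P.1, ?_⟩) fun _ _ h => h⟩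
  · obtain ⟨r, -, hr⟩ := (inferInstance : p.IsPrime).prod_mem_iff.1 hm
    exact hgp _ _ hr
  · have hP := (DepthTwoLib.mem_support_localized_iff q M P.1).1 P.2
    refine (DepthTwoLib.mem_support_localized_iff q (A ⧸ p) P.1).2 ?_
    rw [Module.support_eq_zeroLocus, Ideal.annihilator_quotient, PrimeSpectrum.mem_zeroLocus]
    rw [Module.support_eq_zeroLocus, PrimeSpectrum.mem_zeroLocus] at hP
    obtain ⟨r, hr, hrP⟩ := Ideal.exists_minimalPrimes_le (J := (PrimeSpectrum.comap
      (algebraMap A (Localization.AtPrime q)) P.1).asIdeal) hP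
    refine SetLike.coe_subset_coe.2 (le_trans (le_of_eq ?_) hrP)
    by_contra hne
    have hrp : ¬ r ≤ p := fun h => hne (hp r hr h).symm
    have hmem : r ∈ hfin.toFinset.filter (fun r => ¬ r ≤ p) := Finset.mem_filter.2 ⟨hfin.mem_toFinset.2 hr, hrp⟩
    refine hfq (Ideal.mem_of_dvd q (Finset.dvd_prod_of_mem (fun r : (hfin.toFinset.filter fun r => ¬ r ≤ p :
      Finset (Ideal A)) => g r.1 r.2) (Finset.mem_univ ⟨r, hmem⟩)) ?_)
    have h2 : g r hmem ∈ P.1.asIdeal.comap (algebraMap A (Localization.AtPrime q)) := hrP (hg r hmem)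
    by_contra hc
    exact P.1.2.ne_top (Ideal.eq_top_of_isUnit_mem _ h2
      (IsLocalization.map_units _ (⟨_, hc⟩ : q.primeCompl)))

/-- Near `p` in `V(p)` dimensions are subadditive. -/
theorem exists_dim : ∀ (d : ℕ) (M : Type u) [AddCommGroup M] [Module A M] [Module.Finite A M],
    sdim M p ≤ d → ∃ f ∉ p, ∀ (q : Ideal A) [q.IsPrime], p ≤ q → f ∉ q → sdim M q ≤ sdim (A ⧸ p) q + d
  | 0, M, _, _, _, hd => by
    obtain ⟨f, hf, H⟩ := exists_dim_base p M fun r hr hrp => by
      by_contra hne
      haveI := hr.1.1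
      have hd' : Disjoint (p.primeCompl : Set A) (r : Set A) := Set.disjoint_left.mpr fun x hx hx' => hx (hrp hx')
      haveI := IsLocalization.isPrime_of_isPrime_disjoint p.primeCompl (Localization.AtPrime p) r inferInstance hd'
      have h1 := IsLocalization.under_map_of_isPrime_disjoint p.primeCompl (Localization.AtPrime p) inferInstance hd'
      let P₀ : PrimeSpectrum (Localization.AtPrime p) := ⟨r.map (algebraMap A _), inferInstance⟩
      have hP₀ : P₀ ∈ Module.support (Localization.AtPrime p) (LocalizedModule p.primeCompl M) := by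
        refine (DepthTwoLib.mem_support_localized_iff p M P₀).2 ?_
        rw [Module.support_eq_zeroLocus, PrimeSpectrum.mem_zeroLocus]
        exact fun a ha => h1.ge (hr.1.2 ha)
      have hP₁ : (⟨maximalIdeal (Localization.AtPrime p), inferInstance⟩ : PrimeSpectrum (Localization.AtPrime p)) ∈
          Module.support (Localization.AtPrime p) (LocalizedModule p.primeCompl M) :=
        Module.mem_support_mono (show P₀ ≤ _ from le_maximalIdeal P₀.2.ne_top) hP₀
      have hlt : (⟨P₀, hP₀⟩ : Module.support (Localization.AtPrime p) (LocalizedModule p.primeCompl M)) < ⟨_, hP₁⟩ := by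
        refine lt_of_le_of_ne (le_maximalIdeal P₀.2.ne_top) fun he => hne ?_
        have h2 := congrArg (fun z => (z.1.asIdeal).comap (algebraMap A (Localization.AtPrime p))) he
        simp only [P₀] at h2
        rw [← h1]
        exact h2.trans (IsLocalization.AtPrime.under_maximalIdeal _ p)
      have h3 : (1 : WithBot ℕ∞) ≤ sdim M p :=
        Order.one_le_krullDim_iff.2 ⟨_, _, hlt⟩
      exact absurd (h3.trans hd) (by decide)
    exact ⟨f, hf, fun q _ hpq hfq => by rw [Nat.cast_zero, add_zero]; exact H q hpq hfq⟩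
  | d + 1, M, _, _, _, hd => by
    classical
    by_cases hbase : ∀ r ∈ (Module.annihilator A M).minimalPrimes, r ≤ p → r = p
    · obtain ⟨f, hf, H⟩ := exists_dim_base p M hbase
      refine ⟨f, hf, fun q _ hpq hfq => (H q hpq hfq).trans ?_⟩
      exact le_add_of_nonneg_right (by exact_mod_cast Nat.zero_le _)
    push Not at hbase
    obtain ⟨r₀, hr₀, hr₀p, hne⟩ := hbase
    have hfin : (Module.annihilator A M).minimalPrimes.Finite := Ideal.finite_minimalPrimes_of_isNoetherianRing A _
    obtain ⟨x, hxp, hx⟩ : ∃ x ∈ p, ∀ r ∈ (Module.annihilator A M).minimalPrimes, x ∉ r := by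
      by_contra! hc
      obtain ⟨r, hr, hle⟩ := (Ideal.subset_union_prime_finite hfin ⊥ ⊥ fun r hr _ _ => hr.1.1).1
        (show (p : Set A) ⊆ ⋃ r ∈ (Module.annihilator A M).minimalPrimes, (r : Set A) from fun x hx => by
          obtain ⟨r, hr, hxr⟩ := hc x hx
          exact Set.mem_biUnion hr hxr)
      exact hne (le_antisymm hr₀p ((hle.trans (hr.2 hr₀.1 (hr₀p.trans hle)))))
    have hn : ∀ P ∈ (Module.annihilator (Localization.AtPrime p) (LocalizedModule p.primeCompl M)).minimalPrimes,
        algebraMap A (Localization.AtPrime p) x ∉ P := by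
      intro P hP hxP
      haveI := hP.1.1
      haveI : Module.Finite (Localization.AtPrime p) (LocalizedModule p.primeCompl M) := inferInstance
      have hmem : (⟨P, hP.1.1⟩ : PrimeSpectrum (Localization.AtPrime p)) ∈
          Module.support (Localization.AtPrime p) (LocalizedModule p.primeCompl M) := by
        rw [Module.support_eq_zeroLocus, PrimeSpectrum.mem_zeroLocus]; exact hP.1.2
      have h1 := (DepthTwoLib.mem_support_localized_iff p M _).1 hmem
      rw [Module.support_eq_zeroLocus, PrimeSpectrum.mem_zeroLocus] at h1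
      obtain ⟨r, hr, hrP⟩ := Ideal.exists_minimalPrimes_le (J := P.comap (algebraMap A _)) h1
      haveI := hr.1.1
      have hrp : r ≤ p := hrP.trans ((Ideal.comap_mono (le_maximalIdeal hP.1.1.ne_top)).trans
        (IsLocalization.AtPrime.under_maximalIdeal _ p).le)
      have hd' : Disjoint (p.primeCompl : Set A) (r : Set A) := Set.disjoint_left.mpr fun x hx hx' => hx (hrp hx')
      haveI := IsLocalization.isPrime_of_isPrime_disjoint p.primeCompl (Localization.AtPrime p) r inferInstance hd'
      have h2 := IsLocalization.under_map_of_isPrime_disjoint p.primeCompl (Localization.AtPrime p) inferInstance hd'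
      have h3 : (⟨r.map (algebraMap A _), inferInstance⟩ : PrimeSpectrum (Localization.AtPrime p)) ∈
          Module.support (Localization.AtPrime p) (LocalizedModule p.primeCompl M) := by
        refine (DepthTwoLib.mem_support_localized_iff p M _).2 ?_
        rw [Module.support_eq_zeroLocus, PrimeSpectrum.mem_zeroLocus]
        exact fun a ha => h2.ge (hr.1.2 ha)
      rw [Module.support_eq_zeroLocus, PrimeSpectrum.mem_zeroLocus] at h3
      have h4 : P ≤ r.map (algebraMap A _) := hP.2 ⟨inferInstance, h3⟩ (Ideal.map_le_iff_le_comap.2 hrP)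
      exact hx r hr (h2.le (h4 hxP))
    obtain ⟨E⟩ := exists_quot_equiv (M := M) p x
    have hd' : sdim (QuotSMulTop x M) p ≤ d := by
      have h1 := Module.supportDim_quotSMulTop_succ_le_of_notMem_minimalPrimes hn
      rw [← Module.supportDim_eq_of_equiv E] at h1
      have h2 := h1.trans hd
      rw [Nat.cast_succ] at h2
      exact le_of_add_one_le h2
    obtain ⟨f, hf, H⟩ := exists_dim d (QuotSMulTop x M) hd'
    refine ⟨f, hf, fun q _ hpq hfq => ?_⟩
    haveI : IsNoetherianRing (Localization.AtPrime q) := IsLocalization.isNoetherianRing q.primeCompl _ inferInstance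
    obtain ⟨E'⟩ := exists_quot_equiv (M := M) q x
    have h1 := Module.supportDim_le_supportDim_quotSMulTop_succ (M := LocalizedModule q.primeCompl M)
      ((IsLocalization.AtPrime.to_map_mem_maximal_iff (Localization.AtPrime q) q x).2 (hpq hxp))
    rw [← Module.supportDim_eq_of_equiv E'] at h1
    refine h1.trans ?_
    rw [Nat.cast_succ, ← add_assoc]
    exact add_le_add (H q hpq hfq) le_rfl

end SkOpenLib
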